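import Groth.Agent.ZeroLocusLib.Piece
import Groth.Agent.S1268
import Groth.Agent.RGFlatLib.ModSheaf
import Groth.Agent.FlatLib.QStalk

/-!
# Projective pieces after an etale extension of the base
-/

set_option autoImplicit false
set_option maxHeartbeats 1000000

universe u

open CategoryTheory CategoryTheory.Limits AlgebraicGeometry TopologicalSpace Opposite TensorProduct

noncomputable section

namespace Groth.Agent.ZeroLocusLib

variable {Y S : Scheme.{u}}

theorem isPullback_lift (q : Y ⟶ S) {T T' : Scheme.{u}} {t : T ⟶ S} {t' : T' ⟶ S} (a : T' ⟶ T) (e : a ≫ t = t') :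
    IsPullback (pullback.lift (pullback.fst q t') (pullback.snd q t' ≫ a)
      (by rw [Category.assoc, e]; exact pullback.condition) : pullback q t' ⟶ pullback q t)
      (pullback.snd q t') (pullback.snd q t) a := by
  refine IsPullback.of_right ?_ (pullback.lift_snd _ _ _) (IsPullback.of_hasPullback q t)
  rw [pullback.lift_fst, e]
  exact IsPullback.of_hasPullback _ _

theorem isPreimmersion_residueField {A : Type u} [CommRing A] (p : Ideal A) [p.IsPrime] :
    IsPreimmersion (Spec.map (CommRingCat.ofHom (algebraMap A p.ResidueField))) :=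
  IsPreimmersion.mk_SpecMap (Topology.IsEmbedding.of_subsingleton _) (Ideal.surjectiveOnStalks_residueField p)

variable {q : Y ⟶ S}

/-- Restricting a piece along an open immersion. -/
abbrev Piece.restrict {R : CommRingCat.{u}} {t : Spec R ⟶ S} (P : Piece q t) (C : Type u) [CommRing C]
    [Algebra P.C C] [Algebra R C] [IsScalarTower R P.C C]
    (h : IsOpenImmersion (Spec.map (CommRingCat.ofHom (algebraMap P.C C)))) : Piece q t where
  V := P.V
  hV := P.hV
  C := C
  φ := (algebraMap P.C C).comp P.φ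
  χ := Spec.map (CommRingCat.ofHom (algebraMap P.C C)) ≫ P.χ
  hopen := haveI := h; inferInstance
  hfst := by rw [Category.assoc, P.hfst, CommRingCat.ofHom_comp, Spec.map_comp, Category.assoc]
  hsnd := by
    rw [Category.assoc, P.hsnd, ← Spec.map_comp, ← CommRingCat.ofHom_comp, ← IsScalarTower.algebraMap_eq]

/-- A piece with projective sections. -/
def Piece.Proj {R : CommRingCat.{u}} {t : Spec R ⟶ S} (P : Piece q t) (F : Y.Modules) : Prop :=
  Module.Projective R (P.Mod F)

theorem proj_baseChange {R : CommRingCat.{u}} {t : Spec R ⟶ S} (P : Piece q t) (F : Y.Modules)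
    (h : P.Proj F) (R' : Type u) [CommRing R'] [Algebra R R'] : (P.baseChange R').Proj F := by
  letI : Algebra Γ(Y, P.V) P.C := P.φ.toAlgebra
  let φ' := (P.baseChange R').φ
  letI : Algebra P.C (R' ⊗[R] P.C) := Algebra.TensorProduct.rightAlgebra
  letI : Algebra Γ(Y, P.V) (R' ⊗[R] P.C) := φ'.toAlgebra
  haveI : IsScalarTower Γ(Y, P.V) P.C (R' ⊗[R] P.C) := IsScalarTower.of_algebraMap_eq fun _ => rfl
  haveI : Module.Projective R (P.C ⊗[Γ(Y, P.V)] Γ(F, P.V)) := h
  let e₁ := (TensorProduct.AlgebraTensorModule.cancelBaseChange Γ(Y, P.V) P.C (R' ⊗[R] P.C) (R' ⊗[R] P.C) Γ(F, P.V)).restrictScalars R'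
  let e₂ : (R' ⊗[R] P.C) ⊗[P.C] (P.C ⊗[Γ(Y, P.V)] Γ(F, P.V)) ≃ₗ[R'] R' ⊗[R] (P.C ⊗[Γ(Y, P.V)] Γ(F, P.V)) :=
    Algebra.IsPushout.cancelBaseChange R R' P.C (R' ⊗[R] P.C) (P.C ⊗[Γ(Y, P.V)] Γ(F, P.V))
  exact Module.Projective.of_equiv (e₂.symm.trans e₁)

/-- Algebra structures on residue fields give points. -/
theorem exists_common {A : Type u} [CommRing A] (K : Type u) [CommRing K] [Algebra A K] :
    ∀ (n : ℕ) (Ri : Fin n → CommRingCat.{u}) [∀ i, Algebra A (Ri i)] [∀ i, Algebra.Etale A (Ri i)]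
      (g : ∀ i, Ri i →ₐ[A] K), ∃ (R : Type u) (_ : CommRing R) (_ : Algebra A R), Algebra.Etale A R ∧
        ∃ (h : ∀ i, Ri i →ₐ[A] R) (gR : R →ₐ[A] K), ∀ i, gR.comp (h i) = g i
  | 0, _, _, _, _ => ⟨A, inferInstance, inferInstance, inferInstance, fun i => i.elim0, Algebra.ofId A K,
      fun i => i.elim0⟩
  | n + 1, Ri, _, _, g => by
      obtain ⟨R, _, _, _, h, gR, hg⟩ := exists_common K n (fun i => Ri i.castSucc) fun i => g i.castSucc
      refine ⟨R ⊗[A] Ri (Fin.last n), inferInstance, inferInstance, Algebra.Etale.comp A R _,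
        Fin.lastCases Algebra.TensorProduct.includeRight fun i => Algebra.TensorProduct.includeLeft.comp (h i),
        Algebra.TensorProduct.lift gR (g (Fin.last n)) fun _ _ => Commute.all _ _, Fin.lastCases ?_ fun i => ?_⟩
      · simp
      · simp [← hg i, ← AlgHom.comp_assoc]

variable (q) (F : Y.Modules) [Coh.IsQCoh F] {U : S.Opens}

/-- The morphism `Spec R ⟶ S` of an algebra over the sections on an affine open. -/
abbrev tBase (hU : IsAffineOpen U) (R : Type u) [CommRing R] [Algebra Γ(S, U) R] :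
    Spec (CommRingCat.of R) ⟶ S :=
  Spec.map (CommRingCat.ofHom (algebraMap Γ(S, U) R)) ≫ hU.fromSpec

theorem tBase_comp (hU : IsAffineOpen U) {R R' : Type u} [CommRing R] [CommRing R'] [Algebra Γ(S, U) R]
    [Algebra Γ(S, U) R'] (h : R →ₐ[Γ(S, U)] R') :
    Spec.map (CommRingCat.ofHom (h : R →+* R')) ≫ tBase hU R = tBase hU R' := by
  rw [← Spec.map_comp_assoc, ← CommRingCat.ofHom_comp, h.comp_algebraMap]

/-- The chart of `Y ×_S U` given by an affine open. -/
def chart (hU : IsAffineOpen U) {V : Y.Opens} (hV : IsAffineOpen V) (hVU : V ≤ q ⁻¹ᵁ U) :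
    Piece q (hU.fromSpec) :=
  letI : Algebra Γ(S, U) Γ(Y, V) := (q.appLE U V hVU).hom.toAlgebra
  { V := V
    hV := hV
    C := Γ(Y, V)
    φ := RingHom.id _
    χ := pullback.lift hV.fromSpec (Spec.map (CommRingCat.ofHom (algebraMap Γ(S, U) Γ(Y, V))))
      (hU.SpecMap_appLE_fromSpec q hV hVU).symm
    hopen := by
      haveI : IsOpenImmersion (pullback.lift hV.fromSpec (Spec.map (CommRingCat.ofHom (algebraMap Γ(S, U) Γ(Y, V))))
          (hU.SpecMap_appLE_fromSpec q hV hVU).symm ≫ pullback.fst q hU.fromSpec) := by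
        rw [pullback.lift_fst]; exact hV.isOpenImmersion_fromSpec
      exact IsOpenImmersion.of_comp _ (pullback.fst q hU.fromSpec)
    hfst := by rw [pullback.lift_fst, CommRingCat.ofHom_id, Spec.map_id, Category.id_comp]
    hsnd := pullback.lift_snd _ _ _ }

variable [IsProper q] [LocallyOfFinitePresentation q] (hF : CohB1.IsFP F) (hflat : FlatMod.IsFlatOver q F)

include hF hflat

omit [IsProper q] in
/-- One point: an etale neighbourhood and a projective piece around the point. -/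
theorem exists_piece_at (hU : IsAffineOpen U) (p : Ideal Γ(S, U)) [p.IsPrime]
    (y : ↥(pullback q (tBase hU p.ResidueField))) :
    ∃ (R : Type u) (_ : CommRing R) (_ : Algebra Γ(S, U) R) (_ : Algebra.Etale Γ(S, U) R)
      (g : R →ₐ[Γ(S, U)] p.ResidueField) (P : Piece q (tBase hU R)), P.Proj F ∧
      (pullback.lift (pullback.fst q (tBase hU p.ResidueField))
        (pullback.snd q _ ≫ Spec.map (CommRingCat.ofHom (g : R →+* p.ResidueField)))
        (by rw [Category.assoc, tBase_comp hU g]; exact pullback.condition) :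
        pullback q (tBase hU p.ResidueField) ⟶ pullback q (tBase hU R)) y ∈ Set.range P.χ := by
  let K := p.ResidueField
  let tK := tBase hU K
  let y₀ := pullback.fst q tK y
  have hqy : q y₀ = hU.fromSpec ⟨p, inferInstance⟩ := by
    have h1 : q y₀ = tK (pullback.snd q tK y) := by
      show (pullback.fst q tK ≫ q) y = (pullback.snd q tK ≫ tK) y
      rw [pullback.condition]
    rw [h1]
    show hU.fromSpec ((Spec.map (CommRingCat.ofHom (algebraMap Γ(S, U) K))) _) = _
    congr 1
    rw [@Subsingleton.elim (PrimeSpectrum K) _ (pullback.snd q tK y) ⊥]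
    exact PrimeSpectrum.ext (Ideal.ker_algebraMap_residueField p)
  have hyU : y₀ ∈ q ⁻¹ᵁ U := by
    show q y₀ ∈ U
    rw [hqy]
    exact hU.range_fromSpec.le (Set.mem_range_self (⟨p, inferInstance⟩ : PrimeSpectrum Γ(S, U)))
  obtain ⟨_, ⟨V, hV, rfl⟩, hyV, hVU⟩ := Y.isBasis_affineOpens.exists_subset_of_mem_open
    (show y₀ ∈ (q ⁻¹ᵁ U : Set Y) from hyU) (q ⁻¹ᵁ U).2
  let A := Γ(S, U)
  letI : Algebra A Γ(Y, V) := (q.appLE U V hVU).hom.toAlgebra
  haveI : Algebra.FinitePresentation A Γ(Y, V) := q.finitePresentation_appLE hU hV hVU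
  letI : Module A Γ(F, V) := Module.compHom _ (q.appLE U V hVU).hom
  haveI : IsScalarTower A Γ(Y, V) Γ(F, V) := IsScalarTower.of_algebraMap_smul fun _ _ => rfl
  haveI : Module.FinitePresentation Γ(Y, V) Γ(F, V) := RGFlatLib.finitePresentation_affine F hF hV
  let Q := (hV.primeIdealOf ⟨y₀, hyV⟩).asIdeal
  haveI : Q.LiesOver p := ⟨by
    have h1 : hU.fromSpec (Spec.map (q.appLE U V hVU) (hV.primeIdealOf ⟨y₀, hyV⟩)) = q y₀ := by
      show (Spec.map (q.appLE U V hVU) ≫ hU.fromSpec) _ = _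
      rw [hU.SpecMap_appLE_fromSpec q hV hVU]
      exact congrArg q (hV.fromSpec_primeIdealOf ⟨y₀, hyV⟩)
    exact (congrArg PrimeSpectrum.asIdeal (hU.fromSpec.isOpenEmbedding.injective (h1.trans hqy))).symm⟩
  have hQ : FlatCA.FlatAt A Q Γ(F, V) :=
    (FlatLib.isFlatOverAt_iff q F U hU V hV hVU hyV rfl).1 (hflat y₀)
  obtain ⟨R, _, _, P, _, hnhd, hR⟩ := Groth.Agent.S1268.result Γ(F, V) p Q hQ
  obtain ⟨het, hP, hbij⟩ := hnhd
  haveI := het
  haveI := hP
  let e := RingEquiv.ofBijective (Ideal.ResidueField.mapₐ p P (Algebra.ofId A R) hP.over) hbij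
  let g : R →ₐ[A] K :=
    { e.symm.toRingHom.comp (algebraMap R P.ResidueField) with
      commutes' := fun a => by
        show e.symm (algebraMap R P.ResidueField (algebraMap A R a)) = _
        rw [← IsScalarTower.algebraMap_apply, RingEquiv.symm_apply_eq]
        exact (AlgHom.commutes (Ideal.ResidueField.mapₐ p P (Algebra.ofId A R) hP.over) a).symm }
  have hker : RingHom.ker (g : R →+* K) = P := by
    ext r
    show e.symm (algebraMap R P.ResidueField r) = 0 ↔ _
    rw [map_eq_zero_iff _ e.symm.injective]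
    exact Ideal.algebraMap_residueField_eq_zero
  let P₀ := (chart q hU hV hVU).baseChange R
  letI : Algebra Γ(Y, V) (R ⊗[A] Γ(Y, V)) := Algebra.TensorProduct.rightAlgebra
  obtain ⟨C, _, hSC, _, hsc, x, _, hopen, hxQ, hxP, hproj⟩ := hR (R ⊗[A] Γ(Y, V))
    ((R ⊗[A] Γ(Y, V)) ⊗[Γ(Y, V)] Γ(F, V)) (TensorProduct.mk Γ(Y, V) (R ⊗[A] Γ(Y, V)) Γ(F, V) 1)
    (TensorProduct.isBaseChange _ _ _)
  letI : Algebra Γ(Y, V) C :=
    ((algebraMap (R ⊗[A] Γ(Y, V)) C).comp (algebraMap Γ(Y, V) (R ⊗[A] Γ(Y, V)))).toAlgebra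
  let P₁ : Piece q (tBase hU R) :=
    letI : Algebra P₀.C C := hSC
    haveI : IsScalarTower R P₀.C C := hsc
    P₀.restrict C hopen
  refine ⟨R, inferInstance, inferInstance, het, g, P₁, ?_, ?_⟩
  · haveI : IsScalarTower Γ(Y, V) (R ⊗[A] Γ(Y, V)) C := IsScalarTower.of_algebraMap_eq fun _ => rfl
    let e' := (TensorProduct.AlgebraTensorModule.cancelBaseChange Γ(Y, V) (R ⊗[A] Γ(Y, V)) C C Γ(F, V)).restrictScalars R
    haveI : Module.Projective R (C ⊗[R ⊗[A] Γ(Y, V)] ((R ⊗[A] Γ(Y, V)) ⊗[Γ(Y, V)] Γ(F, V)))   :=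
      haveI := hproj
      Module.Projective.of_equiv
        ({ RestrictScalars.addEquiv R C _ with
            map_smul' := fun r z => algebraMap_smul C r (RestrictScalars.addEquiv R C _ z) } :
          RestrictScalars R C (C ⊗[R ⊗[A] Γ(Y, V)] ((R ⊗[A] Γ(Y, V)) ⊗[Γ(Y, V)] Γ(F, V))) ≃ₗ[R] _)
    exact Module.Projective.of_equiv e'
  · let c : Spec (CommRingCat.of C) := (⟨x, inferInstance⟩ : PrimeSpectrum C)
    let m : pullback q tK ⟶ pullback q (tBase hU R) := pullback.lift (pullback.fst q tK)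
      (pullback.snd q tK ≫ Spec.map (CommRingCat.ofHom (g : R →+* K)))
      (by rw [Category.assoc, tBase_comp hU g]; exact pullback.condition)
    let w := P₁.χ (show Spec (CommRingCat.of P₁.C) from c)
    have hw₁ : pullback.fst q (tBase hU R) w = y₀ := by
      show (P₁.χ ≫ pullback.fst q (tBase hU R)) c = _
      rw [P₁.hfst]
      show hV.fromSpec (Spec.map (CommRingCat.ofHom P₁.φ) c) = _
      refine (congrArg hV.fromSpec (?_ : _ = hV.primeIdealOf ⟨y₀, hyV⟩)).trans (hV.fromSpec_primeIdealOf ⟨y₀, hyV⟩)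
      exact PrimeSpectrum.ext hxQ.over.symm
    have hw₂ : pullback.snd q (tBase hU R) w = (⟨P, inferInstance⟩ : PrimeSpectrum R) := by
      show (P₁.χ ≫ pullback.snd q (tBase hU R)) c = _
      rw [P₁.hsnd]
      refine PrimeSpectrum.ext ?_
      show Ideal.comap (algebraMap R C) x = P
      rw [IsScalarTower.algebraMap_eq R (R ⊗[A] Γ(Y, V)) C, ← Ideal.comap_comap]
      exact hxP.over.symm
    let k : Spec (CommRingCat.of K) := (⟨⊥, Ideal.bot_prime⟩ : PrimeSpectrum K)
    have hk : Spec.map (CommRingCat.ofHom (g : R →+* K)) k = pullback.snd q (tBase hU R) w := by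
      rw [hw₂]
      exact PrimeSpectrum.ext hker
    obtain ⟨y', hy', -⟩ := Scheme.exists_preimage_of_isPullback
      (isPullback_lift q _ (tBase_comp hU g)) w k hk.symm
    haveI : IsPreimmersion (Spec.map (CommRingCat.ofHom (algebraMap Γ(S, U) K))) := isPreimmersion_residueField p
    haveI : IsPreimmersion tK := inferInstanceAs (IsPreimmersion (Spec.map _ ≫ hU.fromSpec))
    haveI : IsPreimmersion (pullback.fst q tK) := MorphismProperty.pullback_fst _ _ inferInstance
    have hyy : y' = y := (pullback.fst q tK).isEmbedding.injective (by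
      show _ = y₀
      rw [← hw₁, ← hy']
      show _ = (m ≫ pullback.fst q (tBase hU R)) y'
      rw [pullback.lift_fst])
    exact ⟨c, (hy'.symm.trans (congrArg m hyy))⟩

/-- Points of base changes. -/
abbrev bc (q : Y ⟶ S) {T T' : Scheme.{u}} {t : T ⟶ S} {t' : T' ⟶ S} (a : T' ⟶ T) (e : a ≫ t = t') :
    pullback q t' ⟶ pullback q t :=
  pullback.lift (pullback.fst q t') (pullback.snd q t' ≫ a) (by rw [Category.assoc, e]; exact pullback.condition)

omit [IsProper q] [LocallyOfFinitePresentation q] hF hflat in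
theorem exists_along {R R' : Type u} [CommRing R] [CommRing R'] {t : Spec (CommRingCat.of R) ⟶ S}
    {t' : Spec (CommRingCat.of R') ⟶ S} (P : Piece q t) (h : R →+* R')
    (e : Spec.map (CommRingCat.ofHom h) ≫ t = t') (hP : P.Proj F) :
    ∃ P' : Piece q t', P'.Proj F ∧
      ∀ z, bc q (Spec.map (CommRingCat.ofHom h)) e z ∈ Set.range P.χ → z ∈ Set.range P'.χ := by
  letI : Algebra R R' := h.toAlgebra
  subst e
  refine ⟨P.baseChange R', proj_baseChange P F hP R', fun z ⟨c, hc⟩ => ?_⟩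
  obtain ⟨z', -, hz'⟩ := Scheme.exists_preimage_of_isPullback (isPullback_pieceχ R' P) c z hc
  exact ⟨z', hz'⟩

/-- Projective pieces covering the base change to an etale algebra around a prime. -/
theorem exists_pieces (hU : IsAffineOpen U) (p : Ideal Γ(S, U)) [p.IsPrime] :
    ∃ (R : Type u) (_ : CommRing R) (_ : Algebra Γ(S, U) R), Algebra.Etale Γ(S, U) R ∧
      (∃ P : Ideal R, P.IsPrime ∧ P.comap (algebraMap Γ(S, U) R) = p) ∧
      ∃ (ι : Type u) (Pc : ι → Piece q (tBase hU R)), (∀ i, (Pc i).Proj F) ∧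
        ∀ z : ↥(pullback q (tBase hU R)), ∃ i, z ∈ Set.range (Pc i).χ := by
  classical
  let K := p.ResidueField
  let tK := tBase hU K
  choose Ry _ _ _ gy Py hproj hmem using exists_piece_at q F hF hflat hU p
  haveI : CompactSpace ↥(pullback q tK) := QuasiCompact.compactSpace_of_compactSpace (pullback.snd q tK)
  let O : ↥(pullback q tK) → Set ↥(pullback q tK) := fun y =>
    (bc q (Spec.map (CommRingCat.ofHom (gy y : Ry y →+* K))) (tBase_comp hU (gy y))) ⁻¹' Set.range (Py y).χ
  obtain ⟨s, hs⟩ := isCompact_univ.elim_finite_subcover O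
    (fun y => ((Py y).χ.isOpenEmbedding.isOpen_range).preimage (Scheme.Hom.continuous _))
    fun y _ => Set.mem_iUnion.2 ⟨y, hmem y⟩
  let y' : Fin s.card → ↥(pullback q tK) := fun i => (s.equivFin.symm i).1
  obtain ⟨R, _, _, _, h, gR, hg⟩ :=
    exists_common K s.card (fun i => CommRingCat.of (Ry (y' i))) fun i => gy (y' i)
  choose Pc hPc hPcz using fun i =>
    exists_along q F (Py (y' i)) (h i : Ry (y' i) →+* R) (tBase_comp hU (h i)) (hproj (y' i))
  let k : Spec (CommRingCat.of R) :=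
    Spec.map (CommRingCat.ofHom (gR : R →+* K)) (⟨⊥, Ideal.bot_prime⟩ : PrimeSpectrum K)
  have hcovk : ∀ z : ↥(pullback q (tBase hU R)), pullback.snd q _ z = k → ∃ i, z ∈ Set.range (Pc i).χ := by
    intro z hz
    obtain ⟨y, hy, -⟩ := Scheme.exists_preimage_of_isPullback
      (isPullback_lift q _ (tBase_comp hU gR)) z (⟨⊥, Ideal.bot_prime⟩ : PrimeSpectrum K) hz
    obtain ⟨y₁, hy₁, hy₁O⟩ := Set.mem_iUnion₂.1 (hs (Set.mem_univ y))
    have hyi : y' (s.equivFin ⟨y₁, hy₁⟩) = y₁ := by simp [y']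
    generalize s.equivFin ⟨y₁, hy₁⟩ = i at hyi
    subst hyi
    refine ⟨i, hPcz i z ?_⟩
    rw [← hy]
    have e : bc q (Spec.map (CommRingCat.ofHom (gR : R →+* K))) (tBase_comp hU gR) ≫
        bc q (Spec.map (CommRingCat.ofHom (h i : Ry (y' i) →+* R))) (tBase_comp hU (h i)) =
        bc q (Spec.map (CommRingCat.ofHom (gy (y' i) : Ry (y' i) →+* K))) (tBase_comp hU (gy (y' i))) := by
      apply pullback.hom_ext
      · rw [Category.assoc, pullback.lift_fst, pullback.lift_fst, pullback.lift_fst]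
      · rw [Category.assoc, pullback.lift_snd, pullback.lift_snd_assoc, pullback.lift_snd, Category.assoc,
          ← Spec.map_comp, ← CommRingCat.ofHom_comp, ← hg i]
        rfl
    rw [← Scheme.Hom.comp_apply, e]
    exact hy₁O
  let W : Set ↥(pullback q (tBase hU R)) := ⋃ i, Set.range (Pc i).χ
  have hW : IsOpen W := isOpen_iUnion fun i => (Pc i).χ.isOpenEmbedding.isOpen_range
  have hcl : IsClosed ((pullback.snd q (tBase hU R)) '' Wᶜ) :=
    (pullback.snd q (tBase hU R)).isClosedMap _ hW.isClosed_compl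
  have hk : k ∉ (pullback.snd q (tBase hU R)) '' Wᶜ := fun ⟨z, hzW, hz⟩ =>
    hzW (Set.mem_iUnion.2 (hcovk z hz))
  obtain ⟨_, ⟨r, rfl⟩, hkr, hr⟩ :=
    PrimeSpectrum.isTopologicalBasis_basic_opens.exists_subset_of_mem_open hk hcl.isOpen_compl
  let L := Localization.Away r
  haveI : Algebra.Etale R L := Algebra.Etale.of_isLocalizationAway r
  haveI : Algebra.Etale Γ(S, U) L := Algebra.Etale.comp Γ(S, U) R L
  let l : R →ₐ[Γ(S, U)] L := IsScalarTower.toAlgHom _ _ _
  choose Pd hPd hPdz using fun i => exists_along q F (Pc i) (l : R →+* L) (tBase_comp hU l) (hPc i)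
  obtain ⟨P, hP⟩ : k ∈ Set.range (PrimeSpectrum.comap (algebraMap R L)) := by
    rw [PrimeSpectrum.localization_away_comap_range L r]
    exact hkr
  refine ⟨L, inferInstance, inferInstance, inferInstance, ⟨P.asIdeal, P.2, ?_⟩, ULift.{u} (Fin s.card),
    fun i => Pd i.down, fun i => hPd i.down, fun z => ?_⟩
  · rw [IsScalarTower.algebraMap_eq Γ(S, U) R L, ← Ideal.comap_comap,
      show P.asIdeal.comap (algebraMap R L) = k.asIdeal from congrArg PrimeSpectrum.asIdeal hP]
    show Ideal.comap (algebraMap Γ(S, U) R) (Ideal.comap (gR : R →+* K) ⊥) = p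
    rw [Ideal.comap_comap, AlgHom.comp_algebraMap]
    exact Ideal.ker_algebraMap_residueField p
  · have hzr : bc q (Spec.map (CommRingCat.ofHom (l : R →+* L))) (tBase_comp hU l) z ∈ W := by
      by_contra hzW
      refine hr ?_ ⟨_, hzW, rfl⟩
      show (bc q (Spec.map (CommRingCat.ofHom (l : R →+* L))) (tBase_comp hU l) ≫ pullback.snd q (tBase hU R)) z ∈ _
      rw [pullback.lift_snd]
      show _ ∈ (PrimeSpectrum.basicOpen r : Set (PrimeSpectrum R))
      rw [← PrimeSpectrum.localization_away_comap_range L r]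
      exact ⟨pullback.snd q (tBase hU L) z, rfl⟩
    obtain ⟨i, hi⟩ := Set.mem_iUnion.1 hzr
    exact ⟨⟨i⟩, hPdz i z hi⟩

end Groth.Agent.ZeroLocusLib
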