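import Groth.Agent.ZeroLocusLib.Etale
import Groth.Agent.HilbLCLib.Basic
import Mathlib

/-!
# The vanishing scheme of a map into a flat module on a proper scheme
-/

set_option autoImplicit false
set_option maxHeartbeats 1000000

universe u

open CategoryTheory CategoryTheory.Limits AlgebraicGeometry TopologicalSpace Opposite TensorProduct

noncomputable section

namespace Groth.Agent.ZeroLocusLib

section Alg

variable {A : Type u} [CommRing A] {J : Type*} (R : J → Type u) [∀ j, CommRing (R j)] [∀ j, Algebra A (R j)]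

/-- Jointly surjective flat algebras detect zero. -/
theorem eq_zero_of_forall_tensor (hflat : ∀ j, Module.Flat A (R j))
    (hcov : ∀ p : PrimeSpectrum A, ∃ j, p ∈ Set.range (PrimeSpectrum.comap (algebraMap A (R j))))
    {M : Type*} [AddCommGroup M] [Module A M] (x : M) (h : ∀ j, (1 : R j) ⊗ₜ[A] x = 0) : x = 0 := by
  by_contra hx
  let I := Ideal.torsionOf A M x
  have hI : I ≠ ⊤ := fun e => hx (by
    have h1 : (1 : A) ∈ I := by rw [e]; trivial
    simpa [I] using h1)
  obtain ⟨P, hP, hIP⟩ := Ideal.exists_le_maximal I hI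
  obtain ⟨j, Q, hQ⟩ := hcov ⟨P, hP.isPrime⟩
  let g : (A ⧸ I) →ₗ[A] M := Submodule.liftQ I (LinearMap.toSpanSingleton A M x) fun a ha => ha
  have hg : Function.Injective g := LinearMap.ker_eq_bot.1 (Submodule.ker_liftQ_eq_bot _ _ _ fun a ha => ha)
  haveI := hflat j
  have h2 : (1 : R j) ⊗ₜ[A] (Ideal.Quotient.mk I 1) = 0 := by
    refine Module.Flat.lTensor_preserves_injective_linearMap (M := R j) g hg ?_
    rw [map_zero]
    refine Eq.trans ?_ (h j)
    show (1 : R j) ⊗ₜ[A] ((1 : A) • x) = _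
    rw [one_smul]
  have h3 : (1 : R j) ∈ I.map (algebraMap A (R j)) := by
    rw [← Ideal.Quotient.eq_zero_iff_mem]
    have h4 := congrArg (Algebra.TensorProduct.quotIdealMapEquivTensorQuot (R j) I).symm h2
    rw [map_zero, Algebra.TensorProduct.quotIdealMapEquivTensorQuot_symm_tmul, one_smul] at h4
    exact h4
  exact Q.2.ne_top ((Ideal.eq_top_iff_one _).2
    (Ideal.map_le_iff_le_comap.2 (hIP.trans (congrArg PrimeSpectrum.asIdeal hQ).ge) h3))

end Alg

variable {Y S : Scheme.{u}} (q : Y ⟶ S) {F G : Y.Modules} (σ : G ⟶ F) [Coh.IsQCoh F] [Coh.IsQCoh G]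

/-- Vanishing of the pullback of `σ` to the base change along `t`. -/
def Vanish {T : Scheme.{u}} (t : T ⟶ S) : Prop := (Scheme.Modules.pullback (pullback.fst q t)).map σ = 0

theorem vanish_congr {T : Scheme.{u}} {t t' : T ⟶ S} (e : t = t') : Vanish q σ t ↔ Vanish q σ t' := by rw [e]

variable {U : S.Opens} (hU : IsAffineOpen U)

/-- The index of the charts over an affine open. -/
abbrev ChartIx (U : S.Opens) : Type u := {V : Y.Opens // IsAffineOpen V ∧ V ≤ q ⁻¹ᵁ U}

theorem cover_chart (z : ↥(pullback q hU.fromSpec)) :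
    ∃ V : ChartIx q U, z ∈ Set.range (chart q hU V.2.1 V.2.2).χ := by
  have hzU : pullback.fst q hU.fromSpec z ∈ q ⁻¹ᵁ U := by
    show (pullback.fst q hU.fromSpec ≫ q) z ∈ U
    rw [pullback.condition]
    exact hU.range_fromSpec.le (Set.mem_range_self (pullback.snd q hU.fromSpec z))
  obtain ⟨_, ⟨V, hV, rfl⟩, hzV, hVU⟩ := Y.isBasis_affineOpens.exists_subset_of_mem_open
    (show _ ∈ (q ⁻¹ᵁ U : Set Y) from hzU) (q ⁻¹ᵁ U).2
  refine ⟨⟨V, hV, hVU⟩, ?_⟩
  let P := chart q hU hV hVU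
  obtain ⟨c, hc⟩ : pullback.fst q hU.fromSpec z ∈ Set.range hV.fromSpec := hV.range_fromSpec.ge hzV
  refine ⟨c, (pullback.fst q hU.fromSpec).isEmbedding.injective ?_⟩
  rw [← Scheme.Hom.comp_apply, P.hfst]
  show hV.fromSpec (Spec.map (CommRingCat.ofHom (RingHom.id _)) c) = _
  rw [CommRingCat.ofHom_id, Spec.map_id]
  exact hc

theorem tensor_zero_descends {A : Type u} [CommRing A] {R R' M : Type u} [CommRing R] [Algebra A R] [CommRing R']
    [Algebra A R'] [AddCommGroup M] [Module A M] (x : M) (h : (1 : R ⊗[A] R') ⊗ₜ[A] x = 0) :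
    (1 : R) ⊗ₜ[A] ((1 : R') ⊗ₜ[A] x) = 0 := by
  have := congrArg (TensorProduct.assoc A R R' M) h
  simpa [Algebra.TensorProduct.one_def] using this

variable [IsProper q] [LocallyOfFinitePresentation q] (hF : CohB1.IsFP F) (hflat : FlatMod.IsFlatOver q F)

include hF hflat in
/-- The vanishing ideal over an affine open. -/
theorem exists_ideal (hU : IsAffineOpen U) :
    ∃ I : Ideal Γ(S, U), ∀ (R' : Type u) [CommRing R'] [Algebra Γ(S, U) R'],
      Vanish q σ (tBase hU R') ↔ I ≤ RingHom.ker (algebraMap Γ(S, U) R') := by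
  classical
  let A := Γ(S, U)
  choose R _ _ het hpt ι Pc hproj hcov using fun p : PrimeSpectrum A => exists_pieces q F hF hflat hU p.asIdeal
  have hflatR : ∀ p, Module.Flat A (R p) := fun p => haveI := het p; inferInstance
  have hopen : ∀ p, IsOpen (Set.range (PrimeSpectrum.comap (algebraMap A (R p)))) := fun p => by
    haveI := het p
    haveI := hflatR p
    exact (PrimeSpectrum.isOpenMap_comap_of_hasGoingDown_of_finitePresentation (R := A) (S := R p)).isOpen_range
  obtain ⟨s, hs⟩ := isCompact_univ.elim_finite_subcover _ hopen fun p _ => Set.mem_iUnion.2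
    ⟨p, by obtain ⟨P, hP, hPp⟩ := hpt p; exact ⟨⟨P, hP⟩, PrimeSpectrum.ext hPp⟩⟩
  have hdet : ∀ {M : Type u} [AddCommGroup M] [Module A M] (x : M),
      (∀ p : s, (1 : R p) ⊗ₜ[A] x = 0) → x = 0 := fun x hx =>
    eq_zero_of_forall_tensor (fun p : s => R p) (fun p => hflatR p) (fun P => by
      obtain ⟨p, hp, hP⟩ := Set.mem_iUnion₂.1 (hs (Set.mem_univ P))
      exact ⟨⟨p, hp⟩, hP⟩) x hx
  -- the ideals over the etale extensions
  have hJ : ∀ p, ∃ J : Ideal (R p), ∀ (R' : Type u) [CommRing R'] [Algebra A R'] [Algebra (R p) R']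
      [IsScalarTower A (R p) R'], Vanish q σ (tBase hU R') ↔ J ≤ RingHom.ker (algebraMap (R p) R') := by
    intro p
    choose Ji hJi using fun i => exists_content_piece (Pc p i) (hproj p i)
      (fun s : Γ(G, (Pc p i).V) => σ.app (Pc p i).V s)
    refine ⟨⨆ i, Ji i, fun R' _ _ _ _ => ?_⟩
    rw [iSup_le_iff, vanish_congr q σ (tBase_comp hU (IsScalarTower.toAlgHom A (R p) R')).symm]
    refine (map_eq_zero_iff_pieces R' σ (Pc p) (hcov p)).trans ?_
    exact forall_congr' fun i => hJi i R'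
  choose J hJ using hJ
  let I : Ideal A := ⨅ p : s, (J p).comap (algebraMap A (R p))
  -- the ideals descend
  have hJI : ∀ p : s, J p ≤ I.map (algebraMap A (R p)) := by
    intro p j hj
    let Q : s → Type u := fun k => R k ⧸ J k
    let ρ : (A ⧸ I) →ₗ[A] Π k : s, Q k :=
      Submodule.liftQ I (LinearMap.pi fun k : s => Algebra.linearMap A (Q k)) fun a ha => by
        rw [LinearMap.mem_ker]
        funext k
        show algebraMap A (R k ⧸ J k) a = 0
        rw [IsScalarTower.algebraMap_apply A (R k) (R k ⧸ J k)]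
        exact Ideal.Quotient.eq_zero_iff_mem.2 (Ideal.mem_iInf.1 ha k)
    have hρ : Function.Injective ρ := LinearMap.ker_eq_bot.1 (Submodule.ker_liftQ_eq_bot _ _ _ fun a ha => by
      rw [LinearMap.mem_ker] at ha
      refine Ideal.mem_iInf.2 fun k => ?_
      have h1 : algebraMap A (R k ⧸ J k) a = 0 := congrFun ha k
      rw [IsScalarTower.algebraMap_apply A (R k) (R k ⧸ J k)] at h1
      exact Ideal.mem_comap.2 ((Ideal.Quotient.eq_zero_iff_mem (I := J k)).1 h1))
    have hz : ∀ k : s, j ⊗ₜ[A] (1 : Q k) = 0 := by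
      intro k
      let T := Q k ⊗[A] R p
      have hk : Vanish q σ (tBase hU T) := (hJ k T).2 fun a ha => by
        show (algebraMap (R k) (Q k) a) ⊗ₜ[A] (1 : R p) = 0
        rw [show algebraMap (R k) (Q k) a = 0 from Ideal.Quotient.eq_zero_iff_mem.2 ha]
        exact TensorProduct.zero_tmul _ _
      letI : Algebra (R p) T := Algebra.TensorProduct.rightAlgebra
      haveI : IsScalarTower A (R p) T := IsScalarTower.of_algebraMap_eq (R := A) (S := R p) (A := T) fun a =>
        ((Algebra.TensorProduct.includeRight : R p →ₐ[A] T).commutes a).symm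
      have h1 : (1 : Q k) ⊗ₜ[A] j = 0 := (hJ p T).1 hk hj
      rw [← (TensorProduct.comm A (Q k) (R p)).map_eq_zero_iff] at h1
      exact h1
    haveI := hflatR p
    have h2 : j ⊗ₜ[A] (Ideal.Quotient.mk I 1) = 0 := by
      refine Module.Flat.lTensor_preserves_injective_linearMap (M := R p) ρ hρ ?_
      rw [map_zero]
      refine (TensorProduct.piRight A A (R p) Q).injective ?_
      rw [map_zero]
      funext k
      show TensorProduct.piRight A A (R p) Q (j ⊗ₜ[A] ρ (Ideal.Quotient.mk I 1)) k = 0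
      rw [TensorProduct.piRight_apply, TensorProduct.piRightHom_tmul]
      refine Eq.trans (congrArg (fun v => j ⊗ₜ[A] v) ?_) (hz k)
      show algebraMap A (Q k) 1 = 1
      exact map_one _
    have h4 := congrArg (Algebra.TensorProduct.quotIdealMapEquivTensorQuot (R p) I).symm h2
    rw [map_zero, Algebra.TensorProduct.quotIdealMapEquivTensorQuot_symm_tmul, one_smul] at h4
    exact Ideal.Quotient.eq_zero_iff_mem.1 h4
  refine ⟨I, fun R' _ _ => ?_⟩
  have hIJ : ∀ p : s, I.map (algebraMap A (R p)) ≤ J p := fun p =>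
    Ideal.map_le_iff_le_comap.2 (iInf_le _ p)
  have hR'' : ∀ p : s, Vanish q σ (tBase hU (R p ⊗[A] R')) ↔
      ∀ a ∈ I, algebraMap A (R p ⊗[A] R') a = 0 := by
    intro p
    rw [hJ p (R p ⊗[A] R'), le_antisymm (hJI p) (hIJ p), Ideal.map_le_iff_le_comap]
    refine forall₂_congr fun a _ => ?_
    rw [Ideal.mem_comap, RingHom.mem_ker, ← IsScalarTower.algebraMap_apply]
  refine ⟨fun h a ha => hdet (algebraMap A R' a) fun p => ?_, fun h => ?_⟩
  · have hv : Vanish q σ (tBase hU (R p ⊗[A] R')) :=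
      (map_eq_zero_iff_pieces (R := CommRingCat.of A) (R ↑p ⊗[A] R') σ (fun V : ChartIx q U => chart q hU V.2.1 V.2.2)
        (cover_chart q hU)).2 fun V s => by
        have h1 := (map_eq_zero_iff_pieces (R := CommRingCat.of A) R' σ (fun V : ChartIx q U => chart q hU V.2.1 V.2.2)
          (cover_chart q hU)).1 h V s
        have h2 := congrArg ((Algebra.TensorProduct.includeRight : R' →ₐ[A] R ↑p ⊗[A] R').toLinearMap.rTensor _) h1
        rw [map_zero] at h2
        simpa [Algebra.TensorProduct.one_def] using h2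
    have h3 := (hR'' p).1 hv a ha
    rw [← (Algebra.TensorProduct.includeRight : R' →ₐ[A] R ↑p ⊗[A] R').commutes a] at h3
    exact h3
  · refine (map_eq_zero_iff_pieces (R := CommRingCat.of A) R' σ (fun V : ChartIx q U => chart q hU V.2.1 V.2.2)
      (cover_chart q hU)).2 fun V s => hdet _ fun p => ?_
    have hv : Vanish q σ (tBase hU (R p ⊗[A] R')) := (hR'' p).2 fun a ha => by
      rw [← (Algebra.TensorProduct.includeRight : R' →ₐ[A] R ↑p ⊗[A] R').commutes a,
        show algebraMap A R' a = 0 from h ha, map_zero]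
    exact tensor_zero_descends _ ((map_eq_zero_iff_pieces (R := CommRingCat.of A) (R ↑p ⊗[A] R') σ
      (fun V : ChartIx q U => chart q hU V.2.1 V.2.2) (cover_chart q hU)).1 hv V s)

include hF hflat in
/-- The vanishing locus is a closed subscheme. -/
theorem exists_closed : ∃ (Z : Scheme.{u}) (i : Z ⟶ S), IsClosedImmersion i ∧
    ∀ (T : Scheme.{u}) (g : T ⟶ S), (∃ h : T ⟶ Z, h ≫ i = g) ↔ Vanish q σ g := by
  classical
  choose I hI using fun U : S.affineOpens => exists_ideal q σ hF hflat U.2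
  have hle : ∀ (U V : S.affineOpens) (h : V.1 ≤ U.1),
      (I U).map (S.presheaf.map (homOfLE h).op).hom = I V := by
    intro U V h
    letI alg : Algebra Γ(S, U.1) Γ(S, V.1) := (S.presheaf.map (homOfLE h).op).hom.toAlgebra
    have key : ∀ (R' : Type u) [CommRing R'] [Algebra Γ(S, V.1) R'] [Algebra Γ(S, U.1) R']
        [IsScalarTower Γ(S, U.1) Γ(S, V.1) R'],
        I V ≤ RingHom.ker (algebraMap Γ(S, V.1) R') ↔ I U ≤ RingHom.ker (algebraMap Γ(S, U.1) R') := by
      intro R' _ _ _ _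
      rw [← hI V R', ← hI U R']
      refine vanish_congr q σ ?_
      show Spec.map (CommRingCat.ofHom (algebraMap Γ(S, V.1) R')) ≫ V.2.fromSpec =
        Spec.map (CommRingCat.ofHom (algebraMap Γ(S, U.1) R')) ≫ U.2.fromSpec
      rw [IsScalarTower.algebraMap_eq Γ(S, U.1) Γ(S, V.1) R', CommRingCat.ofHom_comp, Spec.map_comp, Category.assoc]
      congr 1
      exact (U.2.map_fromSpec V.2 (homOfLE h).op).symm
    refine le_antisymm ?_ ?_
    · rw [Ideal.map_le_iff_le_comap]
      have h1 := (key (Γ(S, V.1) ⧸ I V)).1 (by rw [Ideal.Quotient.algebraMap_eq, Ideal.mk_ker])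
      intro a ha
      have h2 := h1 ha
      rw [RingHom.mem_ker, IsScalarTower.algebraMap_apply Γ(S, U.1) Γ(S, V.1) (Γ(S, V.1) ⧸ I V)] at h2
      exact Ideal.mem_comap.2 ((Ideal.Quotient.eq_zero_iff_mem (I := I V)).1 h2)
    · have h1 := (key (Γ(S, V.1) ⧸ (I U).map (algebraMap Γ(S, U.1) Γ(S, V.1)))).2 fun a ha => by
        rw [RingHom.mem_ker, IsScalarTower.algebraMap_apply Γ(S, U.1) Γ(S, V.1)
          (Γ(S, V.1) ⧸ (I U).map (algebraMap Γ(S, U.1) Γ(S, V.1)))]
        exact Ideal.Quotient.eq_zero_iff_mem.2 (Ideal.mem_map_of_mem _ ha)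
      rw [Ideal.Quotient.algebraMap_eq, Ideal.mk_ker] at h1
      exact h1
  let 𝓘 : S.IdealSheafData :=
    { ideal := I
      map_ideal_basicOpen := fun U f => hle U (S.affineBasicOpen f) (S.basicOpen_le f) }
  have hker : ∀ {T : Scheme.{u}} (g : T ⟶ S),
      (𝓘 ≤ g.ker ↔ ∀ U : S.affineOpens, I U ≤ RingHom.ker (g.app U.1).hom) := fun g =>
    Scheme.IdealSheafData.le_ofIdeals_iff
  refine ⟨𝓘.subscheme, 𝓘.subschemeι, inferInstance, fun T g => ?_⟩
  have hlift : (∃ h : T ⟶ 𝓘.subscheme, h ≫ 𝓘.subschemeι = g) ↔ 𝓘 ≤ g.ker := by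
    constructor
    · rintro ⟨h, rfl⟩
      exact le_trans (le_of_eq 𝓘.ker_subschemeι.symm) (Scheme.Hom.le_ker_comp h 𝓘.subschemeι)
    · intro h
      exact ⟨IsClosedImmersion.lift 𝓘.subschemeι g (by rwa [𝓘.ker_subschemeι]),
        IsClosedImmersion.lift_fac _ _ _⟩
  rw [hlift, hker]
  let κ := Σ U : S.affineOpens, {W : T.Opens // IsAffineOpen W ∧ W ≤ g ⁻¹ᵁ U.1}
  let χ : ∀ i : κ, pullback q (i.2.2.1.fromSpec ≫ g) ⟶ pullback q g := fun i =>
    bc q i.2.2.1.fromSpec rfl
  haveI : ∀ i, IsOpenImmersion (χ i) := fun i => MorphismProperty.of_isPullback (P := @IsOpenImmersion)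
    (isPullback_lift q i.2.2.1.fromSpec rfl).flip inferInstance
  have hcov : ∀ z : ↥(pullback q g), ∃ i, z ∈ Set.range (χ i) := by
    intro z
    obtain ⟨_, ⟨U, hU, rfl⟩, hzU, -⟩ := S.isBasis_affineOpens.exists_subset_of_mem_open
      (Set.mem_univ (g (pullback.snd q g z))) isOpen_univ
    obtain ⟨_, ⟨W, hW, rfl⟩, hzW, hWU⟩ := T.isBasis_affineOpens.exists_subset_of_mem_open
      (show pullback.snd q g z ∈ (g ⁻¹ᵁ U : Set T) from hzU) (g ⁻¹ᵁ U).2
    obtain ⟨w, hw⟩ : pullback.snd q g z ∈ Set.range hW.fromSpec := hW.range_fromSpec.ge hzW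
    obtain ⟨z', hz', -⟩ := Scheme.exists_preimage_of_isPullback
      (isPullback_lift q hW.fromSpec (rfl : _ = hW.fromSpec ≫ g)) z w hw.symm
    exact ⟨⟨⟨U, hU⟩, W, hW, hWU⟩, z', hz'⟩
  rw [Vanish, map_eq_zero_iff_of_cover σ _ _ χ hcov]
  have hi : ∀ i : κ, ((Scheme.Modules.pullback (χ i ≫ pullback.fst q g)).map σ = 0) ↔
      I i.1 ≤ RingHom.ker (g.appLE i.1.1 i.2.1 i.2.2.2).hom := by
    intro i
    letI : Algebra Γ(S, i.1.1) Γ(T, i.2.1) := (g.appLE i.1.1 i.2.1 i.2.2.2).hom.toAlgebra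
    rw [map_eq_zero_congr σ (show χ i ≫ pullback.fst q g = pullback.fst q _ from pullback.lift_fst _ _ _)]
    refine Iff.trans (vanish_congr q σ (t := i.2.2.1.fromSpec ≫ g) (t' := tBase i.1.2 Γ(T, i.2.1))
      (i.1.2.SpecMap_appLE_fromSpec g i.2.2.1 i.2.2.2).symm) ?_
    exact hI i.1 Γ(T, i.2.1)
  simp only [hi]
  constructor
  · intro h i a ha
    have := h i.1 ha
    rw [RingHom.mem_ker] at this ⊢
    show (T.presheaf.map (homOfLE i.2.2.2).op).hom ((g.app i.1.1).hom a) = 0
    rw [this]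
    exact map_zero _
  · intro h U a ha
    rw [RingHom.mem_ker]
    refine T.sheaf.eq_of_locally_eq' (fun W : {W : T.Opens // IsAffineOpen W ∧ W ≤ g ⁻¹ᵁ U.1} => W.1) _
      (fun W => homOfLE W.2.2) (fun x hx => ?_) _ _ fun W => ?_
    · obtain ⟨_, ⟨W, hW, rfl⟩, hxW, hWU⟩ := T.isBasis_affineOpens.exists_subset_of_mem_open hx (g ⁻¹ᵁ U.1).2
      exact Opens.mem_iSup.2 ⟨⟨W, hW, hWU⟩, hxW⟩
    · exact (h ⟨U, W⟩ ha).trans (map_zero (T.presheaf.map (homOfLE W.2.2).op).hom).symm

end Groth.Agent.ZeroLocusLib
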