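import Groth.Agent.FlatFunLimLib.Zero
import Mathlib.RingTheory.Localization.BaseChange

/-!
# When the pullback of a map of quasi-coherent modules vanishes

Affine criterion for a morphism which factors through an affine open, and locality along jointly
surjective open immersions.
-/

set_option autoImplicit false

universe u

open CategoryTheory CategoryTheory.Limits AlgebraicGeometry TopologicalSpace Opposite TensorProduct
open FlatFunLimLib

noncomputable section

namespace Groth.Agent.ZeroLocusLib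

section Alg

variable {B C M : Type u} [CommRing B] [CommRing C] [AddCommGroup M] [Module B M]

/-- An element killed by all local rings of `C` is killed by `C`. -/
theorem kills_of_local (φ : B →+* C) (m : M)
    (h : ∀ (P : Ideal C) [P.IsPrime], Kills ((algebraMap C (Localization.AtPrime P)).comp φ) m) :
    Kills φ m := by
  letI := φ.toAlgebra
  let I : Ideal C := Ideal.torsionOf C (C ⊗[B] M) ((1 : C) ⊗ₜ m)
  suffices hI : I = ⊤ by
    have h1 : (1 : C) • ((1 : C) ⊗ₜ[B] m) = 0 :=
      (Ideal.mem_torsionOf_iff (R := C) _ (1 : C)).1 (show (1 : C) ∈ I by rw [hI]; trivial)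
    rw [one_smul] at h1
    show m ⊗ₜ[B] (1 : C) = 0
    rw [← (TensorProduct.comm B C M).map_eq_zero_iff] at h1
    exact h1
  by_contra hI
  obtain ⟨P, hP, hIP⟩ := Ideal.exists_le_maximal I hI
  let L := Localization.AtPrime P
  let g : C ⊗[B] M →ₗ[C] L ⊗[B] M :=
    TensorProduct.AlgebraTensorModule.map (Algebra.linearMap C L) LinearMap.id
  have hg : IsBaseChange L g :=
    IsBaseChange.of_equiv (TensorProduct.AlgebraTensorModule.cancelBaseChange B C L L M) fun x => by
      induction x using TensorProduct.induction_on with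
      | zero => simp
      | tmul c y =>
        simp [g, Algebra.smul_def]
      | add a b ha hb => rw [tmul_add, map_add, map_add, ha, hb]
  haveI : IsLocalizedModule P.primeCompl g := (isLocalizedModule_iff_isBaseChange P.primeCompl L g).2 hg
  have h0 : g ((1 : C) ⊗ₜ m) = 0 := by
    have hk : m ⊗ₜ[B] (1 : L) = 0 := by
      have hk := h P
      unfold Kills at hk
      have e : ((algebraMap C L).comp φ).toAlgebra = (inferInstance : Algebra B L) :=
        Algebra.algebra_ext _ _ fun b => (IsScalarTower.algebraMap_apply B C L b).symm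
      rw [e] at hk
      exact hk
    rw [← (TensorProduct.comm B M L).map_eq_zero_iff] at hk
    simpa [g] using hk
  obtain ⟨⟨r, hr⟩, hrm⟩ := (IsLocalizedModule.eq_zero_iff P.primeCompl g).1 h0
  exact hr (hIP ((Ideal.mem_torsionOf_iff (R := C) _ r).2 hrm))

end Alg

variable {Y : Scheme.{u}} {F G : Y.Modules} (σ : G ⟶ F)

theorem zeroAt_iff_kills [Coh.IsQCoh F] [Coh.IsQCoh G] {Z : Scheme.{u}} (h : Z ⟶ Y) {V : Y.Opens}
    (hV : IsAffineOpen V) (z : Z) (hz : h z ∈ V) :
    ZeroAt σ h z ↔ ∀ s : Γ(G, V), Kills (rho h z hz) (σ.app V s) := by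
  rw [zeroAt_iff σ h (id : Γ(G, V) → Γ(G, V)) (by rw [Set.range_id]; exact Submodule.span_univ) hV z hz]
  exact forall_congr' fun s => pgerm_eq_zero_iff h hV z hz (σ.app V s)

/-- The pullback along a morphism from an affine scheme into an affine open vanishes iff all the sections
are killed. -/
theorem map_eq_zero_iff_of_le [Coh.IsQCoh F] [Coh.IsQCoh G] {W : Scheme.{u}} [IsAffine W] (h : W ⟶ Y)
    {V : Y.Opens} (hV : IsAffineOpen V) (hle : (⊤ : W.Opens) ≤ h ⁻¹ᵁ V) :
    (Scheme.Modules.pullback h).map σ = 0 ↔ ∀ s : Γ(G, V), Kills (h.appLE V ⊤ hle).hom (σ.app V s) := by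
  rw [map_eq_zero_iff]
  have hrho : ∀ w : W, rho h w (hle trivial) =
      (W.presheaf.germ ⊤ w trivial).hom.comp (h.appLE V ⊤ hle).hom := fun w => RingHom.ext fun b => by
    show h.stalkMap w (Y.presheaf.germ V (h w) (hle trivial) b) = _
    rw [Scheme.Hom.germ_stalkMap_apply]
    exact (TopCat.Presheaf.germ_res_apply W.presheaf (homOfLE hle) w trivial _).symm
  constructor
  · intro H s
    refine kills_of_local _ _ fun P hP => ?_
    let w : W := (isAffineOpen_top W).fromSpec ⟨P, hP⟩
    have hk := (zeroAt_iff_kills σ h hV w (hle trivial)).1 (H w) s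
    rw [hrho] at hk
    letI : Algebra Γ(W, ⊤) (W.presheaf.stalk w) := (W.presheaf.germ ⊤ w trivial).hom.toAlgebra
    haveI : IsLocalization.AtPrime (W.presheaf.stalk w) P := by
      have hprime : (isAffineOpen_top W).primeIdealOf ⟨w, trivial⟩ = ⟨P, hP⟩ :=
        (isAffineOpen_top W).fromSpec.isOpenEmbedding.injective ((isAffineOpen_top W).fromSpec_primeIdealOf _)
      have hl := (isAffineOpen_top W).isLocalization_stalk ⟨w, trivial⟩
      rw [hprime] at hl
      exact hl
    let e : W.presheaf.stalk w ≃ₐ[Γ(W, ⊤)] Localization.AtPrime P :=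
      IsLocalization.algEquiv P.primeCompl _ _
    refine hk.map (e : W.presheaf.stalk w →+* Localization.AtPrime P) ?_
    refine RingHom.ext fun b => ?_
    exact e.commutes (h.appLE V ⊤ hle b)
  · intro H w
    refine (zeroAt_iff_kills σ h hV w (hle trivial)).2 fun s => ?_
    exact (H s).map (W.presheaf.germ ⊤ w trivial).hom (hrho w).symm

theorem kills_iff_of_bijective {B C C' M : Type u} [CommRing B] [CommRing C] [CommRing C'] [AddCommGroup M]
    [Module B M] {φ : B →+* C} {ψ : B →+* C'} (τ : C →+* C') (hτ : Function.Bijective τ)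
    (h : τ.comp φ = ψ) (m : M) : Kills φ m ↔ Kills ψ m := by
  refine ⟨fun hm => hm.map τ h, fun hm => hm.map (RingEquiv.ofBijective τ hτ).symm.toRingHom ?_⟩
  subst h
  ext b
  exact (RingEquiv.ofBijective τ hτ).symm_apply_apply (φ b)

/-- Stalkwise vanishing does not change along open immersions. -/
theorem zeroAt_comp_iff [Coh.IsQCoh F] [Coh.IsQCoh G] {Z W : Scheme.{u}} (h : Z ⟶ Y) (χ : W ⟶ Z)
    [IsOpenImmersion χ] (w : W) : ZeroAt σ (χ ≫ h) w ↔ ZeroAt σ h (χ w) := by
  obtain ⟨_, ⟨V, hV, rfl⟩, hz, -⟩ := Y.isBasis_affineOpens.exists_subset_of_mem_open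
    (Set.mem_univ (h (χ w))) isOpen_univ
  have hz' : (χ ≫ h) w ∈ V := hz
  rw [zeroAt_iff_kills σ (χ ≫ h) hV w hz', zeroAt_iff_kills σ h hV (χ w) hz]
  refine forall_congr' fun s => (kills_iff_of_bijective (χ.stalkMap w).hom
    (ConcreteCategory.bijective_of_isIso (χ.stalkMap w)) (RingHom.ext fun b => ?_) _).symm
  show χ.stalkMap w (h.stalkMap (χ w) (Y.presheaf.germ V (h (χ w)) hz b)) = _
  rw [← ConcreteCategory.comp_apply (h.stalkMap (χ w)) (χ.stalkMap w), ← Scheme.Hom.stalkMap_comp]
  rfl

/-- Vanishing is local along jointly surjective open immersions. -/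
theorem map_eq_zero_iff_of_cover [Coh.IsQCoh F] [Coh.IsQCoh G] {Z : Scheme.{u}} (h : Z ⟶ Y) {ι : Type*}
    (W : ι → Scheme.{u}) (χ : ∀ i, W i ⟶ Z) [∀ i, IsOpenImmersion (χ i)]
    (hcov : ∀ z : Z, ∃ i, z ∈ Set.range (χ i)) :
    (Scheme.Modules.pullback h).map σ = 0 ↔ ∀ i, (Scheme.Modules.pullback (χ i ≫ h)).map σ = 0 := by
  simp only [map_eq_zero_iff]
  refine ⟨fun H i w => (zeroAt_comp_iff σ h (χ i) w).2 (H _), fun H z => ?_⟩
  obtain ⟨i, w, rfl⟩ := hcov z
  exact (zeroAt_comp_iff σ h (χ i) w).1 (H i w)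

theorem map_eq_zero_congr {Z : Scheme.{u}} {h h' : Z ⟶ Y} (e : h = h') :
    (Scheme.Modules.pullback h).map σ = 0 ↔ (Scheme.Modules.pullback h').map σ = 0 := by
  subst e; rfl

end Groth.Agent.ZeroLocusLib
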