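import Groth.Agent.ZeroLocusLib.Crit
import Mathlib

/-!
# Pieces of a base change, and content ideals in projective modules
-/

set_option autoImplicit false

universe u

open CategoryTheory CategoryTheory.Limits AlgebraicGeometry TopologicalSpace Opposite TensorProduct
open FlatFunLimLib

noncomputable section

namespace Groth.Agent.ZeroLocusLib

section Alg

variable {R M : Type u} [CommRing R] [AddCommGroup M] [Module R M]

/-- A set of elements of a projective module has a universal content ideal. -/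
theorem exists_content [Module.Projective R M] {ι : Type*} (m : ι → M) :
    ∃ J : Ideal R, ∀ (R' : Type u) [CommRing R'] [Algebra R R'],
      (∀ j, (1 : R') ⊗ₜ[R] m j = 0) ↔ J ≤ RingHom.ker (algebraMap R R') := by
  classical
  obtain ⟨s, hs⟩ := Module.projective_def'.1 (inferInstance : Module.Projective R M)
  refine ⟨Ideal.span (Set.range fun p : ι × M => s (m p.1) p.2), fun R' _ _ => ?_⟩
  let e := TensorProduct.finsuppScalarRight R R R' M
  have hinj : Function.Injective (s.lTensor R') := by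
    refine Function.LeftInverse.injective (g := (Finsupp.linearCombination R id).lTensor R') fun x => ?_
    show ((Finsupp.linearCombination R id).lTensor R') (s.lTensor R' x) = x
    rw [← LinearMap.comp_apply, ← LinearMap.lTensor_comp, hs, LinearMap.lTensor_id]
    rfl
  have key : ∀ j, (1 : R') ⊗ₜ[R] m j = 0 ↔ ∀ x, algebraMap R R' (s (m j) x) = 0 := fun j => by
    rw [← hinj.eq_iff, map_zero, LinearMap.lTensor_tmul, ← e.map_eq_zero_iff, Finsupp.ext_iff]
    refine forall_congr' fun x => ?_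
    rw [Finsupp.zero_apply, TensorProduct.finsuppScalarRight_apply_tmul_apply, Algebra.algebraMap_eq_smul_one]
  simp only [key, Ideal.span_le, Set.range_subset_iff, SetLike.mem_coe, RingHom.mem_ker, Prod.forall]

variable {R' B C N : Type u} [CommRing R'] [Algebra R R'] [CommRing B] [CommRing C] [Algebra R C] [Algebra B C]
  [AddCommGroup N] [Module B N]

/-- Killing by `R' ⊗ C` is vanishing in `R' ⊗ (C ⊗ N)`. -/
theorem kills_tensor_iff (n : N) :
    Kills (((Algebra.TensorProduct.includeRight : C →ₐ[R] R' ⊗[R] C) : C →+* R' ⊗[R] C).comp (algebraMap B C)) n ↔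
      (1 : R') ⊗ₜ[R] ((1 : C) ⊗ₜ[B] n) = 0 := by
  let φ := ((Algebra.TensorProduct.includeRight : C →ₐ[R] R' ⊗[R] C) : C →+* R' ⊗[R] C).comp (algebraMap B C)
  letI : Algebra C (R' ⊗[R] C) := Algebra.TensorProduct.rightAlgebra
  letI : Algebra B (R' ⊗[R] C) := φ.toAlgebra
  haveI : IsScalarTower B C (R' ⊗[R] C) := IsScalarTower.of_algebraMap_eq fun _ => rfl
  let e₁ := TensorProduct.AlgebraTensorModule.cancelBaseChange B C C (R' ⊗[R] C) N
  show n ⊗ₜ[B] (1 : R' ⊗[R] C) = 0 ↔ _
  rw [← (TensorProduct.comm B N (R' ⊗[R] C)).map_eq_zero_iff, TensorProduct.comm_tmul,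
    ← e₁.symm.map_eq_zero_iff]
  let e₂ : (R' ⊗[R] C) ⊗[C] (C ⊗[B] N) ≃ₗ[R'] R' ⊗[R] (C ⊗[B] N) :=
    Algebra.IsPushout.cancelBaseChange R R' C (R' ⊗[R] C) (C ⊗[B] N)
  rw [show e₁.symm ((1 : R' ⊗[R] C) ⊗ₜ[B] n) = (1 : R' ⊗[R] C) ⊗ₜ[C] ((1 : C) ⊗ₜ[B] n) from
    e₁.injective (by simp [e₁]), ← e₂.map_eq_zero_iff]
  rw [show e₂ ((1 : R' ⊗[R] C) ⊗ₜ[C] ((1 : C) ⊗ₜ[B] n)) = (1 : R') ⊗ₜ[R] ((1 : C) ⊗ₜ[B] n) from
    Algebra.IsPushout.cancelBaseChange_tmul _ _ _ _ _ _]

end Alg

variable {Y S : Scheme.{u}} (q : Y ⟶ S)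

/-- An affine piece of `Y ×_S Spec R` over an affine open of `Y`. -/
structure Piece {R : CommRingCat.{u}} (t : Spec R ⟶ S) where
  V : Y.Opens
  hV : IsAffineOpen V
  C : Type u
  [ringC : CommRing C]
  [algC : Algebra R C]
  φ : Γ(Y, V) →+* C
  χ : Spec (CommRingCat.of C) ⟶ pullback q t
  hopen : IsOpenImmersion χ
  hfst : χ ≫ pullback.fst q t = Spec.map (CommRingCat.ofHom φ) ≫ hV.fromSpec
  hsnd : χ ≫ pullback.snd q t = Spec.map (CommRingCat.ofHom (algebraMap R C))

attribute [instance] Piece.ringC Piece.algC Piece.hopen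

variable {q}

/-- The sections of a module on a piece. -/
abbrev Piece.Mod {R : CommRingCat.{u}} {t : Spec R ⟶ S} (P : Piece q t) (F : Y.Modules) : Type u :=
  letI := P.φ.toAlgebra
  P.C ⊗[Γ(Y, P.V)] Γ(F, P.V)

/-- The image of a section in the sections on a piece. -/
abbrev Piece.elt {R : CommRingCat.{u}} {t : Spec R ⟶ S} (P : Piece q t) {F : Y.Modules} (x : Γ(F, P.V)) :
    P.Mod F :=
  letI := P.φ.toAlgebra
  (1 : P.C) ⊗ₜ[Γ(Y, P.V)] x

theorem spec_le {C : Type u} [CommRing C] {V : Y.Opens} (hV : IsAffineOpen V)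
    (g : Spec (CommRingCat.of C) ⟶ Spec Γ(Y, V)) :
    (⊤ : (Spec (CommRingCat.of C)).Opens) ≤ (g ≫ hV.fromSpec) ⁻¹ᵁ V := fun x _ =>
  hV.range_fromSpec.le (Set.mem_range_self (g x))

theorem appLE_fromSpec {C : Type u} [CommRing C] {V : Y.Opens} (hV : IsAffineOpen V) (φ : Γ(Y, V) →+* C) :
    (Spec.map (CommRingCat.ofHom φ) ≫ hV.fromSpec).appLE V ⊤ (spec_le hV _) ≫
      (Scheme.ΓSpecIso (CommRingCat.of C)).hom = CommRingCat.ofHom φ := by
  rw [Scheme.Hom.comp_appLE, IsAffineOpen.fromSpec_app_self, Category.assoc, Category.assoc,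
    Scheme.Hom.map_appLE_assoc]
  have h : ∀ e, (Spec.map (CommRingCat.ofHom φ)).appLE ⊤ ⊤ e = (Spec.map (CommRingCat.ofHom φ)).appTop :=
    fun e => by rw [Scheme.Hom.appTop, Scheme.Hom.app_eq_appLE]; rfl
  rw [h, Scheme.ΓSpecIso_naturality]
  exact Iso.inv_hom_id_assoc _ _

/-- The pullback to `Spec C` through `V` vanishes iff all sections are killed. -/
theorem map_eq_zero_iff_spec {F G : Y.Modules} (σ : G ⟶ F) [Coh.IsQCoh F] [Coh.IsQCoh G] {C : Type u}
    [CommRing C] {V : Y.Opens} (hV : IsAffineOpen V) (φ : Γ(Y, V) →+* C) :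
    (Scheme.Modules.pullback (Spec.map (CommRingCat.ofHom φ) ≫ hV.fromSpec)).map σ = 0 ↔
      ∀ s : Γ(G, V), Kills φ (σ.app V s) := by
  rw [map_eq_zero_iff_of_le σ _ hV (spec_le hV _)]
  refine forall_congr' fun s => kills_iff_of_bijective (Scheme.ΓSpecIso (CommRingCat.of C)).hom.hom
    (ConcreteCategory.bijective_of_isIso (Scheme.ΓSpecIso (CommRingCat.of C)).hom) ?_ _
  exact congrArg CommRingCat.Hom.hom (appLE_fromSpec hV φ)

variable {R : CommRingCat.{u}} {t : Spec R ⟶ S} (R' : Type u) [CommRing R'] [Algebra R R']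

section BaseChange

variable (P : Piece q t)

/-- The map of base changes. -/
abbrev mMap (q : Y ⟶ S) (t : Spec R ⟶ S) :
    pullback q (Spec.map (CommRingCat.ofHom (algebraMap R R')) ≫ t) ⟶ pullback q t :=
  pullback.lift (pullback.fst q (Spec.map (CommRingCat.ofHom (algebraMap R R')) ≫ t))
    (pullback.snd q (Spec.map (CommRingCat.ofHom (algebraMap R R')) ≫ t) ≫
      Spec.map (CommRingCat.ofHom (algebraMap R R'))) (by rw [Category.assoc]; exact pullback.condition)

theorem isPullback_mMap : IsPullback (mMap R' q t)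
    (pullback.snd q (Spec.map (CommRingCat.ofHom (algebraMap R R')) ≫ t)) (pullback.snd q t)
    (Spec.map (CommRingCat.ofHom (algebraMap R R'))) := by
  refine IsPullback.of_right ?_ (pullback.lift_snd _ _ _) (IsPullback.of_hasPullback q t)
  rw [show mMap R' q t ≫ pullback.fst q t = pullback.fst q _ from pullback.lift_fst _ _ _]
  exact IsPullback.of_hasPullback _ _

/-- The projection of a base changed piece. -/
abbrev pieceProj : Spec (CommRingCat.of (R' ⊗[R] P.C)) ⟶ Spec (CommRingCat.of P.C) :=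
  Spec.map (CommRingCat.ofHom (Algebra.TensorProduct.includeRight : P.C →ₐ[R] R' ⊗[R] P.C).toRingHom)

/-- The structure map of a base changed piece. -/
abbrev pieceStr : Spec (CommRingCat.of (R' ⊗[R] P.C)) ⟶ Spec (CommRingCat.of R') :=
  Spec.map (CommRingCat.ofHom Algebra.TensorProduct.includeLeftRingHom)

theorem isPullback_piece : IsPullback (pieceProj R' P) (pieceStr R' P)
    (Spec.map (CommRingCat.ofHom (algebraMap R P.C))) (Spec.map (CommRingCat.ofHom (algebraMap R R'))) :=
  isPullback_SpecMap_of_isPushout _ _ _ _ (CommRingCat.isPushout_tensorProduct R R' P.C).flip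

theorem piece_w : (pieceProj R' P ≫ P.χ ≫ pullback.fst q t) ≫ q =
    pieceStr R' P ≫ Spec.map (CommRingCat.ofHom (algebraMap R R')) ≫ t := by
  rw [Category.assoc, Category.assoc, pullback.condition, reassoc_of% P.hsnd, (isPullback_piece R' P).w_assoc]

/-- The inclusion of a base changed piece. -/
abbrev pieceχ : Spec (CommRingCat.of (R' ⊗[R] P.C)) ⟶
    pullback q (Spec.map (CommRingCat.ofHom (algebraMap R R')) ≫ t) :=
  pullback.lift (pieceProj R' P ≫ P.χ ≫ pullback.fst q t) (pieceStr R' P) (piece_w R' P)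

theorem pieceχ_mMap : pieceχ R' P ≫ mMap R' q t = pieceProj R' P ≫ P.χ := by
  apply pullback.hom_ext
  · rw [Category.assoc, pullback.lift_fst, pullback.lift_fst, Category.assoc]
  · rw [Category.assoc, pullback.lift_snd, pullback.lift_snd_assoc, Category.assoc, P.hsnd]
    exact (isPullback_piece R' P).w.symm

theorem isPullback_pieceχ : IsPullback (pieceProj R' P) (pieceχ R' P) P.χ (mMap R' q t) := by
  refine IsPullback.of_bot ?_ (pieceχ_mMap R' P).symm (isPullback_mMap R')
  rw [show pieceχ R' P ≫ pullback.snd q _ = pieceStr R' P from pullback.lift_snd _ _ _, P.hsnd]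
  exact isPullback_piece R' P

theorem isOpenImmersion_pieceχ : IsOpenImmersion (pieceχ R' P) :=
  MorphismProperty.of_isPullback (P := @IsOpenImmersion) (isPullback_pieceχ R' P) P.hopen

/-- The base change of a piece. -/
abbrev Piece.baseChange : Piece q (Spec.map (CommRingCat.ofHom (algebraMap R R')) ≫ t) where
  V := P.V
  hV := P.hV
  C := R' ⊗[R] P.C
  φ := (Algebra.TensorProduct.includeRight : P.C →ₐ[R] R' ⊗[R] P.C).toRingHom.comp P.φ
  χ := pieceχ R' P
  hopen := isOpenImmersion_pieceχ R' P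
  hfst := by
    rw [pullback.lift_fst, P.hfst, CommRingCat.ofHom_comp, Spec.map_comp, Category.assoc]
  hsnd := pullback.lift_snd _ _ _

end BaseChange

/-- Base change of a cover is a cover. -/
theorem Piece.cover_baseChange {ι : Type*} (P : ι → Piece q t)
    (hP : ∀ z : ↥(pullback q t), ∃ i, z ∈ Set.range (P i).χ)
    (z : ↥(pullback q (Spec.map (CommRingCat.ofHom (algebraMap R R')) ≫ t))) :
    ∃ i, z ∈ Set.range ((P i).baseChange R').χ := by
  obtain ⟨i, c, hc⟩ := hP (mMap R' q t z)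
  obtain ⟨p, -, hp⟩ := Scheme.exists_preimage_of_isPullback (isPullback_pieceχ R' (P i)) c z hc
  exact ⟨i, p, hp⟩

/-- The vanishing criterion given by a cover by pieces. -/
theorem map_eq_zero_iff_pieces {F G : Y.Modules} (σ : G ⟶ F) [Coh.IsQCoh F] [Coh.IsQCoh G] {ι : Type*}
    (P : ι → Piece q t) (hP : ∀ z : ↥(pullback q t), ∃ i, z ∈ Set.range (P i).χ) :
    (Scheme.Modules.pullback (pullback.fst q (Spec.map (CommRingCat.ofHom (algebraMap R R')) ≫ t))).map σ = 0 ↔
      ∀ (i : ι) (s : Γ(G, (P i).V)), (1 : R') ⊗ₜ[R] (P i).elt (σ.app (P i).V s) = 0 := by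
  haveI : ∀ i, IsOpenImmersion ((P i).baseChange R').χ := fun i => isOpenImmersion_pieceχ R' (P i)
  rw [map_eq_zero_iff_of_cover σ _ _ (fun i => ((P i).baseChange R').χ) (Piece.cover_baseChange R' P hP)]
  refine forall_congr' fun i => ?_
  rw [map_eq_zero_congr σ ((P i).baseChange R').hfst,
    map_eq_zero_iff_spec σ ((P i).baseChange R').hV ((P i).baseChange R').φ]
  refine forall_congr' fun s => ?_
  letI := (P i).φ.toAlgebra
  exact kills_tensor_iff (R := R) (R' := R') (B := Γ(Y, (P i).V)) (C := (P i).C) (σ.app (P i).V s)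

/-- The content ideal of sections on a piece with projective sections. -/
theorem exists_content_piece (P : Piece q t) {F : Y.Modules} (h : Module.Projective R (P.Mod F)) {ι : Type*}
    (m : ι → Γ(F, P.V)) :
    ∃ J : Ideal R, ∀ (R' : Type u) [CommRing R'] [Algebra R R'],
      (∀ j, (1 : R') ⊗ₜ[R] P.elt (m j) = 0) ↔ J ≤ RingHom.ker (algebraMap R R') :=
  haveI := h
  exists_content fun j => P.elt (m j)

end Groth.Agent.ZeroLocusLib
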